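import Cfsg.Prelude
import Cfsg.Agent.Spectrum.PSp

/-!
The element orders of `PSp_4(3)`: the divisors of 5, 9 and 12.
-/

set_option autoImplicit false

namespace Cfsg.Agent.SpecU42

open Polynomial

universe u

variable {F : Type u} [Field F]

/-- The characteristic polynomial of a symplectic matrix is self-reciprocal. -/
theorem charpoly_reverse (A : Matrix.symplecticGroup (Fin 2) F) :
    A.1.charpoly.reverse = A.1.charpoly := by
  have hd : A.1.det = 1 := SymplecticGroup.det_eq_one A.2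
  have hu : IsUnit A.1 := (Matrix.isUnit_iff_isUnit_det _).2 (hd ▸ isUnit_one)
  have hinv : A.1⁻¹ = (A⁻¹).1 :=
    Matrix.inv_eq_left_inv (by rw [← Submonoid.coe_mul, inv_mul_cancel]; rfl)
  have h1 : (A.1⁻¹).charpoly = A.1.charpoly := by
    rw [hinv, ← Agent.Spectrum.adj_coe, Agent.Spectrum.adj, ← neg_mul, Matrix.charpoly_mul_comm,
      mul_neg, ← mul_assoc, Matrix.J_squared, neg_mul, one_mul, neg_neg, Matrix.charpoly_transpose]
  rw [Matrix.charpoly_inv _ hu, hd, Ring.inverse_one, map_one, mul_one] at h1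
  rw [Matrix.reverse_charpoly, ← h1, show Fintype.card (Fin 2 ⊕ Fin 2) = 4 from rfl]
  ring

/-- The shape of the characteristic polynomial. -/
theorem exists_coeff (A : Matrix.symplecticGroup (Fin 2) F) :
    ∃ a b : F, A.1.charpoly = X ^ 4 + C a * X ^ 3 + C b * X ^ 2 + C a * X + 1 := by
  have hn : A.1.charpoly.natDegree = 4 := by rw [Matrix.charpoly_natDegree_eq_dim]; rfl
  have hm : A.1.charpoly.coeff 4 = 1 := by
    have := (Matrix.charpoly_monic A.1).coeff_natDegree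
    rwa [hn] at this
  have hr : ∀ i ≤ 4, A.1.charpoly.coeff i = A.1.charpoly.coeff (4 - i) := by
    intro i hi
    conv_lhs => rw [← charpoly_reverse A]
    rw [coeff_reverse, hn, revAt_le hi]
  refine ⟨A.1.charpoly.coeff 1, A.1.charpoly.coeff 2, ?_⟩
  conv_lhs => rw [as_sum_range_C_mul_X_pow' A.1.charpoly (n := 5) (by omega)]
  simp only [Finset.sum_range_succ, Finset.sum_range_zero]
  rw [hm, show A.1.charpoly.coeff 0 = 1 from (hr 0 (by omega)).trans hm,
    show A.1.charpoly.coeff 3 = A.1.charpoly.coeff 1 from hr 3 (by omega)]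
  simp only [map_one, pow_zero, pow_one]
  ring

variable [Fintype F]

/-- The three elements of the field. -/
theorem three_cases (hF : Fintype.card F = 3) (a : F) : a = 0 ∨ a = 1 ∨ a = -1 := by
  have h : a ^ 3 = a := by rw [← hF]; exact FiniteField.pow_card a
  have h' : a * ((a - 1) * (a + 1)) = 0 := by linear_combination h
  rcases mul_eq_zero.1 h' with h0 | h0
  · exact Or.inl h0
  rcases mul_eq_zero.1 h0 with h1 | h1
  · exact Or.inr (Or.inl (sub_eq_zero.1 h1))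
  · exact Or.inr (Or.inr (eq_neg_of_add_eq_zero_left h1))

theorem three_eq_zero' (hF : Fintype.card F = 3) : (3 : F) = 0 := by
  have h := Nat.cast_card_eq_zero F
  rw [hF] at h
  exact_mod_cast h

theorem dvd_binomial (hF : Fintype.card F = 3) (a b : F) :
    ∃ k, (k = 5 ∨ k = 9 ∨ k = 12) ∧ ∃ c : F, c * c = 1 ∧
      (X ^ 4 + C a * X ^ 3 + C b * X ^ 2 + C a * X + 1 : F[X]) ∣ X ^ k - C c := by
  have h3 : (3 : F[X]) = 0 := by
    rw [← map_ofNat (C : F →+* F[X]) 3, three_eq_zero' hF, map_zero]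
  rcases three_cases hF a with rfl | rfl | rfl <;> rcases three_cases hF b with rfl | rfl | rfl <;>
    simp only [map_zero, map_one, map_neg]
  · exact ⟨12, by simp, -1, by simp, 1 + (-1) * X ^ 4 + 1 * X ^ 8, by rw [map_neg, map_one]; ring⟩
  · exact ⟨12, by simp, 1, by simp, (-1) + 1 * X ^ 2 + (-1) * X ^ 6 + 1 * X ^ 8, by rw [map_one]; ring⟩
  · exact ⟨12, by simp, 1, by simp, (-1) + (-1) * X ^ 2 + 1 * X ^ 6 + 1 * X ^ 8, by rw [map_one]; ring⟩
  · exact ⟨9, by simp, -1, by simp, 1 + (-1) * X ^ 1 + 1 * X ^ 2 + 1 * X ^ 3 + (-1) * X ^ 4 + 1 * X ^ 5,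
      by rw [map_neg, map_one]; linear_combination ((-1) * X ^ 3 + (-1) * X ^ 6 : F[X]) * h3⟩
  · exact ⟨5, by simp, 1, by simp, (-1) + 1 * X ^ 1, by rw [map_one]; ring⟩
  · exact ⟨12, by simp, 1, by simp,
      (-1) + 1 * X ^ 1 + 1 * X ^ 2 + 1 * X ^ 3 + (-1) * X ^ 5 + (-1) * X ^ 6 + (-1) * X ^ 7 + 1 * X ^ 8,
      by rw [map_one]; linear_combination ((-1) * X ^ 2 + 1 * X ^ 10 : F[X]) * h3⟩
  · exact ⟨9, by simp, 1, by simp, (-1) + (-1) * X ^ 1 + (-1) * X ^ 2 + 1 * X ^ 3 + 1 * X ^ 4 + 1 * X ^ 5,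
      by rw [map_one]; linear_combination ((-1) * X ^ 3 + 1 * X ^ 6 : F[X]) * h3⟩
  · exact ⟨5, by simp, -1, by simp, 1 + 1 * X ^ 1, by rw [map_neg, map_one]; ring⟩
  · exact ⟨12, by simp, 1, by simp,
      (-1) + (-1) * X ^ 1 + 1 * X ^ 2 + (-1) * X ^ 3 + 1 * X ^ 5 + (-1) * X ^ 6 + 1 * X ^ 7 + 1 * X ^ 8,
      by rw [map_one]; linear_combination ((-1) * X ^ 2 + 1 * X ^ 10 : F[X]) * h3⟩

theorem psp_order_dvd (hF : Fintype.card F = 3) (g : Cfsg.PSp 2 F) :
    orderOf g ∣ 5 ∨ orderOf g ∣ 9 ∨ orderOf g ∣ 12 := by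
  obtain ⟨A, rfl⟩ := QuotientGroup.mk_surjective g
  obtain ⟨a, b, hab⟩ := exists_coeff A
  obtain ⟨k, hk, c, hc, q, hq⟩ := dvd_binomial hF a b
  have hA : A.1 ^ k = c • 1 := by
    have h := congrArg (aeval A.1) hq
    rw [← hab, map_mul, Matrix.aeval_self_charpoly, zero_mul, map_sub, map_pow, aeval_X, aeval_C,
      sub_eq_zero] at h
    rw [h, Algebra.algebraMap_eq_smul_one]
  have h : orderOf (QuotientGroup.mk A : Cfsg.PSp 2 F) ∣ k := by
    refine orderOf_dvd_of_pow_eq_one ?_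
    rw [← QuotientGroup.mk_pow, QuotientGroup.eq_one_iff, Agent.Spectrum.center_iff (by norm_num)]
    exact ⟨c, hc, by rw [SubmonoidClass.coe_pow, hA]⟩
  rcases hk with rfl | rfl | rfl <;> tauto

/-- Four by four matrices over the field with three elements. -/
abbrev M4 : Type := Matrix (Fin 2 ⊕ Fin 2) (Fin 2 ⊕ Fin 2) (ZMod 3)

/-- Plus or minus the identity. -/
def IsSc (P : M4) : Prop := P = 1 ∨ P = -1

instance (P : M4) : Decidable (IsSc P) := inferInstanceAs (Decidable (_ ∨ _))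

theorem exists_map_element (hF : Fintype.card F = 3) (M : M4)
    (hM : M * Matrix.J (Fin 2) (ZMod 3) * M.transpose = Matrix.J (Fin 2) (ZMod 3)) :
    ∃ x : Cfsg.PSp 2 F, ∀ d, x ^ d = 1 ↔ IsSc (M ^ d) := by
  have : CharP F 3 := charP_of_card_eq_prime (hp := ⟨Nat.prime_three⟩) (by rw [hF])
  let φ : ZMod 3 →+* F := ZMod.castHom dvd_rfl F
  have hφ : Function.Injective φ := φ.injective
  refine ⟨QuotientGroup.mk ⟨M.map φ, SymplecticGroup.map_mem (SymplecticGroup.mem_iff.2 hM) φ⟩, fun d => ?_⟩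
  rw [← QuotientGroup.mk_pow, QuotientGroup.eq_one_iff, Agent.Spectrum.center_iff (by norm_num),
    SubmonoidClass.coe_pow]
  show (∃ c : F, c * c = 1 ∧ (φ.mapMatrix M) ^ d = c • 1) ↔ _
  rw [← map_pow]
  constructor
  · rintro ⟨c, hc, h⟩
    rcases mul_self_eq_one_iff.1 hc with rfl | rfl
    · exact Or.inl (Matrix.map_injective hφ (by simpa using h))
    · exact Or.inr (Matrix.map_injective hφ (by simpa [Matrix.map_neg] using h))
  · rintro (h | h)
    · exact ⟨1, one_mul 1, by rw [h, map_one, one_smul]⟩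
    · exact ⟨-1, by simp, by rw [h, map_neg, map_one, neg_one_smul]⟩

/-- An element of order five in `Sp_4(3)` up to sign. -/
def five1 : M4 := Matrix.fromBlocks !![1, 1; 2, 2] !![2, 1; 2, 1] !![1, 2; 0, 1] !![1, 1; 1, 0]
/-- Its square. -/
def five2 : M4 := Matrix.fromBlocks !![2, 2; 2, 2] !![1, 1; 2, 0] !![0, 2; 0, 1] !![2, 1; 0, 2]
/-- Its fourth power. -/
def five4 : M4 := Matrix.fromBlocks !![2, 2; 2, 0] !![2, 2; 1, 1] !![1, 0; 2, 1] !![2, 1; 2, 1]
/-- An element of order nine. -/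
def nine1 : M4 := Matrix.fromBlocks !![0, 1; 2, 1] !![0, 0; 0, 0] !![0, 0; 2, 1] !![1, 1; 2, 0]
/-- Its square. -/
def nine2 : M4 := Matrix.fromBlocks !![2, 1; 2, 0] !![0, 0; 0, 0] !![2, 1; 2, 0] !![0, 1; 2, 2]
/-- Its cube. -/
def nine3 : M4 := Matrix.fromBlocks !![2, 0; 0, 2] !![0, 0; 0, 0] !![1, 1; 1, 1] !![2, 0; 0, 2]
/-- Its sixth power. -/
def nine6 : M4 := Matrix.fromBlocks !![1, 0; 0, 1] !![0, 0; 0, 0] !![1, 1; 1, 1] !![1, 0; 0, 1]
/-- An element of order twelve. -/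
def tw1 : M4 := Matrix.fromBlocks !![1, 2; 2, 2] !![0, 2; 0, 2] !![1, 2; 2, 2] !![2, 0; 1, 0]
/-- Its square. -/
def tw2 : M4 := Matrix.fromBlocks !![0, 1; 1, 0] !![2, 0; 2, 2] !![1, 1; 1, 1] !![1, 0; 2, 2]
/-- Its fourth power. -/
def tw4 : M4 := Matrix.fromBlocks !![0, 2; 1, 2] !![1, 2; 2, 1] !![2, 2; 2, 2] !![2, 2; 1, 0]
/-- Its sixth power. -/
def tw6 : M4 := Matrix.fromBlocks !![2, 0; 2, 1] !![0, 2; 1, 0] !![0, 0; 0, 0] !![2, 2; 0, 1]

theorem exists_psp_five (hF : Fintype.card F = 3) : ∃ x : Cfsg.PSp 2 F, orderOf x = 5 := by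
  obtain ⟨x, hx⟩ := exists_map_element hF five1 (by decide)
  have : Fact (Nat.Prime 5) := ⟨Nat.prime_five⟩
  refine ⟨x, orderOf_eq_prime ?_ ?_⟩
  · rw [hx, show five1 ^ 5 = five4 * five1 by
      rw [pow_succ, show five1 ^ 4 = five4 by
        rw [show 4 = 2 * 2 by norm_num, pow_mul, show five1 ^ 2 = five2 by rw [pow_two]; decide, pow_two]
        decide]]
    decide
  · intro h
    have h1 := (hx 1).1 (by rw [pow_one, h])
    rw [pow_one] at h1
    exact absurd h1 (by decide)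

theorem exists_psp_nine (hF : Fintype.card F = 3) : ∃ x : Cfsg.PSp 2 F, orderOf x = 9 := by
  obtain ⟨x, hx⟩ := exists_map_element hF nine1 (by decide)
  have h3 : nine1 ^ 3 = nine3 := by
    rw [pow_succ, show nine1 ^ 2 = nine2 by rw [pow_two]; decide]
    decide
  refine ⟨x, orderOf_eq_prime_pow (p := 3) (n := 1) ?_ ?_⟩
  · rw [pow_one, hx, h3]
    decide
  · rw [hx, show 3 ^ (1 + 1) = 3 * 3 by norm_num, pow_mul, h3, pow_succ,
      show nine3 ^ 2 = nine6 by rw [pow_two]; decide]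
    decide

theorem exists_psp_twelve (hF : Fintype.card F = 3) : ∃ x : Cfsg.PSp 2 F, orderOf x = 12 := by
  obtain ⟨x, hx⟩ := exists_map_element hF tw1 (by decide)
  have h4 : tw1 ^ 4 = tw4 := by
    rw [show 4 = 2 * 2 by norm_num, pow_mul, show tw1 ^ 2 = tw2 by rw [pow_two]; decide, pow_two]
    decide
  have h6 : tw1 ^ 6 = tw6 := by
    rw [show 6 = 4 + 2 by norm_num, pow_add, h4, show tw1 ^ 2 = tw2 by rw [pow_two]; decide]
    decide
  refine ⟨x, (orderOf_eq_iff (by norm_num)).2 ⟨?_, fun m hm hm0 he => ?_⟩⟩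
  · rw [hx, show 12 = 6 + 6 by norm_num, pow_add, h6]
    decide
  · have h12 : x ^ 12 = 1 := by rw [hx, show 12 = 6 + 6 by norm_num, pow_add, h6]; decide
    have hg := (pow_gcd_eq_one (a := x) (m := m) (n := 12)).2 ⟨he, h12⟩
    have : m.gcd 12 ∣ 4 ∨ m.gcd 12 ∣ 6 := by interval_cases m <;> decide
    rcases this with ⟨e, he'⟩ | ⟨e, he'⟩
    · have h := (hx 4).1 (by rw [he', pow_mul, hg, one_pow])
      rw [h4] at h
      exact absurd h (by decide)
    · have h := (hx 6).1 (by rw [he', pow_mul, hg, one_pow])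
      rw [h6] at h
      exact absurd h (by decide)

end Cfsg.Agent.SpecU42
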