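import Mathlib

/-!
A solvable group with element orders `1, 2, 3, 4, 5, 6, 9, 12`: a nilpotent algebra of index four over
the field with 81 elements, as a group under `x + y + xy`, extended by a Frobenius group of order 20.
-/

set_option autoImplicit false

noncomputable section

namespace Cfsg.Agent.SpecU42

/-- The field with 81 elements. -/
abbrev E : Type := GaloisField 3 4

theorem three_eq_zero : (3 : E) = 0 := by exact_mod_cast CharP.cast_eq_zero E 3

theorem add_cube (x y : E) : (x + y) ^ 3 = x ^ 3 + y ^ 3 := add_pow_char x y 3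

theorem add_nine (x y : E) : (x + y) ^ 9 = x ^ 9 + y ^ 9 := by
  simpa using add_pow_char_pow x y 3 2

theorem neg_cube (x : E) : (-x) ^ 3 = -x ^ 3 := by ring

theorem neg_nine (x : E) : (-x) ^ 9 = -x ^ 9 := by ring

theorem card_E : Nat.card E = 81 := GaloisField.card 3 4 (by norm_num)

theorem pow_81 (x : E) : x ^ 81 = x := by
  have := Fintype.ofFinite E
  have h := FiniteField.pow_card x
  rwa [← Nat.card_eq_fintype_card, card_E] at h

/-- The nilpotent algebra: two coordinates in degree one, four in degree two, one in degree three. -/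
@[ext]
structure N where
  /-- first coordinate in degree one -/
  a : E
  /-- second coordinate in degree one -/
  b : E
  /-- first coordinate in degree two -/
  p1 : E
  /-- second coordinate in degree two -/
  p2 : E
  /-- third coordinate in degree two -/
  p3 : E
  /-- fourth coordinate in degree two -/
  p4 : E
  /-- coordinate in degree three -/
  w : E

namespace N

instance : Mul N := ⟨fun x y =>
  ⟨x.a + y.a, x.b + y.b, x.p1 + y.p1 + x.a * y.a ^ 3, x.p2 + y.p2 + x.a ^ 9 * y.a ^ 3,
    x.p3 + y.p3 + x.a ^ 3 * y.b ^ 9, x.p4 + y.p4 + x.a ^ 3 * y.b,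
    x.w + y.w + (x.p1 * y.b ^ 9 - x.p2 * y.b) + (x.a * y.p3 - x.a ^ 9 * y.p4)⟩⟩

instance : One N := ⟨⟨0, 0, 0, 0, 0, 0, 0⟩⟩

instance : Inv N := ⟨fun x =>
  ⟨-x.a, -x.b, -x.p1 + x.a * x.a ^ 3, -x.p2 + x.a ^ 9 * x.a ^ 3,
    -x.p3 + x.a ^ 3 * x.b ^ 9, -x.p4 + x.a ^ 3 * x.b,
    -x.w + (x.p1 * x.b ^ 9 - x.p2 * x.b) + (x.a * x.p3 - x.a ^ 9 * x.p4) -
      (x.a * (x.a ^ 3 * x.b ^ 9) - x.a ^ 9 * (x.a ^ 3 * x.b))⟩⟩

theorem mul_def (x y : N) : x * y =
    ⟨x.a + y.a, x.b + y.b, x.p1 + y.p1 + x.a * y.a ^ 3, x.p2 + y.p2 + x.a ^ 9 * y.a ^ 3,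
      x.p3 + y.p3 + x.a ^ 3 * y.b ^ 9, x.p4 + y.p4 + x.a ^ 3 * y.b,
      x.w + y.w + (x.p1 * y.b ^ 9 - x.p2 * y.b) + (x.a * y.p3 - x.a ^ 9 * y.p4)⟩ := rfl

theorem one_def : (1 : N) = ⟨0, 0, 0, 0, 0, 0, 0⟩ := rfl

theorem inv_def (x : N) : x⁻¹ =
    ⟨-x.a, -x.b, -x.p1 + x.a * x.a ^ 3, -x.p2 + x.a ^ 9 * x.a ^ 3,
      -x.p3 + x.a ^ 3 * x.b ^ 9, -x.p4 + x.a ^ 3 * x.b,
      -x.w + (x.p1 * x.b ^ 9 - x.p2 * x.b) + (x.a * x.p3 - x.a ^ 9 * x.p4) -
        (x.a * (x.a ^ 3 * x.b ^ 9) - x.a ^ 9 * (x.a ^ 3 * x.b))⟩ := rfl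

instance : Group N :=
  Group.ofLeftAxioms
    (fun x y z => by ext <;> simp only [mul_def, add_cube, add_nine] <;> ring)
    (fun x => by ext <;> simp [mul_def, one_def])
    (fun x => by ext <;> simp only [mul_def, one_def, inv_def, neg_cube, neg_nine] <;> ring)

instance : Finite N :=
  Finite.of_injective (fun x : N => (x.a, x.b, x.p1, x.p2, x.p3, x.p4, x.w)) fun x y h => by
    simp only [Prod.mk.injEq] at h
    obtain ⟨h1, h2, h3, h4, h5, h6, h7⟩ := h
    ext <;> assumption

/-- The form giving the cubes. -/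
def cubeForm (a b : E) : E := a * a ^ 3 * b ^ 9 - a ^ 9 * a ^ 3 * b

theorem pow_three_eq (x : N) : x ^ 3 = ⟨0, 0, 0, 0, 0, 0, cubeForm x.a x.b⟩ := by
  have h3 := three_eq_zero
  rw [pow_succ, pow_two]
  ext <;> simp only [mul_def, add_cube, add_nine, cubeForm]
  · linear_combination x.a * h3
  · linear_combination x.b * h3
  · linear_combination (x.p1 + x.a * x.a ^ 3) * h3
  · linear_combination (x.p2 + x.a ^ 9 * x.a ^ 3) * h3
  · linear_combination (x.p3 + x.a ^ 3 * x.b ^ 9) * h3
  · linear_combination (x.p4 + x.a ^ 3 * x.b) * h3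
  · linear_combination (x.w + x.p1 * x.b ^ 9 - x.p2 * x.b + x.a * x.p3 - x.a ^ 9 * x.p4) * h3

theorem pow_nine_eq (x : N) : x ^ 9 = 1 := by
  rw [show 9 = 3 * 3 by norm_num, pow_mul, pow_three_eq x, pow_three_eq, one_def]
  simp [cubeForm]

/-- The action of the field automorphism. -/
def frobFun (x : N) : N := ⟨x.a ^ 3, x.b ^ 3, x.p1 ^ 3, x.p2 ^ 3, x.p3 ^ 3, x.p4 ^ 3, x.w ^ 3⟩

end N

/-- The scalars of order dividing five. -/
abbrev C : Type := ↥(rootsOfUnity 5 E)

/-- The value of a scalar. -/
def cv (c : C) : E := ((c : Eˣ) : E)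

theorem cv_pow_five (c : C) : cv c ^ 5 = 1 := by
  rw [cv, ← Units.val_pow_eq_pow_val, (mem_rootsOfUnity 5 (c : Eˣ)).1 c.2, Units.val_one]

theorem cv_mul (c d : C) : cv (c * d) = cv c * cv d := by simp [cv]

theorem cv_one : cv 1 = 1 := by simp [cv]

theorem cv_injective : Function.Injective cv := fun _ _ h => Subtype.ext (Units.ext h)

/-- The scaling action. -/
def scaleFun (c : C) (x : N) : N :=
  ⟨cv c * x.a, cv c * x.b, cv c ^ 4 * x.p1, cv c ^ 12 * x.p2, cv c ^ 12 * x.p3, cv c ^ 4 * x.p4,
    cv c ^ 13 * x.w⟩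

theorem scaleFun_mul (c d : C) (x : N) : scaleFun (c * d) x = scaleFun c (scaleFun d x) := by
  ext <;> simp only [scaleFun, cv_mul] <;> ring

theorem scaleFun_one (x : N) : scaleFun 1 x = x := by ext <;> simp [scaleFun, cv_one]

/-- Scaling as automorphisms. -/
def scale : C →* MulAut N where
  toFun c :=
    { toFun := scaleFun c
      invFun := scaleFun c⁻¹
      left_inv := fun x => by rw [← scaleFun_mul, inv_mul_cancel, scaleFun_one]
      right_inv := fun x => by rw [← scaleFun_mul, mul_inv_cancel, scaleFun_one]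
      map_mul' := fun x y => by ext <;> simp only [scaleFun, N.mul_def] <;> ring }
  map_one' := MulEquiv.ext scaleFun_one
  map_mul' c d := MulEquiv.ext (scaleFun_mul c d)

/-- The field automorphism applied several times. -/
def frobPow (j : ℕ) (x : N) : N :=
  ⟨x.a ^ 3 ^ j, x.b ^ 3 ^ j, x.p1 ^ 3 ^ j, x.p2 ^ 3 ^ j, x.p3 ^ 3 ^ j, x.p4 ^ 3 ^ j, x.w ^ 3 ^ j⟩

theorem add_pow_three_pow (x y : E) (j : ℕ) : (x + y) ^ 3 ^ j = x ^ 3 ^ j + y ^ 3 ^ j :=
  add_pow_char_pow x y 3 j

theorem sub_pow_three_pow (x y : E) (j : ℕ) : (x - y) ^ 3 ^ j = x ^ 3 ^ j - y ^ 3 ^ j :=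
  sub_pow_char_pow (p := 3) x y j

theorem frobPow_map_mul (j : ℕ) (x y : N) : frobPow j (x * y) = frobPow j x * frobPow j y := by
  ext <;> simp only [frobPow, N.mul_def, add_pow_three_pow, sub_pow_three_pow, mul_pow, ← pow_mul] <;>
    ring

theorem frobPow_add (i j : ℕ) (x : N) : frobPow (i + j) x = frobPow i (frobPow j x) := by
  ext <;> simp only [frobPow, ← pow_mul, ← pow_add, add_comm i j]

theorem frobPow_four (x : N) : frobPow 4 x = x := by ext <;> simp [frobPow, pow_81]

theorem frobPow_zero (x : N) : frobPow 0 x = x := by ext <;> simp [frobPow]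

theorem frobPow_mod (j : ℕ) (x : N) : frobPow (j % 4) x = frobPow j x := by
  have h : ∀ k, frobPow (4 * k) x = x := by
    intro k
    induction k with
    | zero => exact frobPow_zero x
    | succ k ih => rw [mul_add, mul_one, frobPow_add, frobPow_four, ih]
  conv_rhs => rw [← Nat.mod_add_div j 4, frobPow_add, h]

/-- The field automorphism on the scalars. -/
def frobC (j : ℕ) (c : C) : C := c ^ 3 ^ j

theorem cv_frobC (j : ℕ) (c : C) : cv (frobC j c) = cv c ^ 3 ^ j := by simp [frobC, cv]

theorem frobC_four (c : C) : frobC 4 c = c := cv_injective (by rw [cv_frobC]; exact pow_81 _)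

theorem frobC_mod (j : ℕ) (c : C) : frobC (j % 4) c = frobC j c := by
  have h : ∀ k, frobC (4 * k) c = c := by
    intro k
    induction k with
    | zero => exact pow_one c
    | succ k ih =>
      rw [mul_add, mul_one]
      show c ^ 3 ^ (4 * k + 4) = c
      rw [pow_add, pow_mul]
      show frobC 4 (frobC (4 * k) c) = c
      rw [ih, frobC_four]
  conv_rhs => rw [← Nat.mod_add_div j 4]
  show _ = c ^ 3 ^ (j % 4 + 4 * (j / 4))
  rw [pow_add, mul_comm, pow_mul]
  exact congrArg (fun d : C => d ^ 3 ^ (j % 4)) (h (j / 4)).symm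

/-- The cyclic group of order four acting on the scalars. -/
def galC : Multiplicative (ZMod 4) →* MulAut C :=
  MonoidHom.mk' (fun j =>
    { toFun := frobC (Multiplicative.toAdd j).val
      invFun := frobC (-Multiplicative.toAdd j).val
      left_inv := fun c => by
        rw [frobC, frobC, ← pow_mul, ← pow_add]
        show frobC _ c = c
        rw [← frobC_mod, ← ZMod.val_add, add_neg_cancel, ZMod.val_zero, frobC, pow_zero, pow_one]
      right_inv := fun c => by
        rw [frobC, frobC, ← pow_mul, ← pow_add]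
        show frobC _ c = c
        rw [← frobC_mod, ← ZMod.val_add, neg_add_cancel, ZMod.val_zero, frobC, pow_zero, pow_one]
      map_mul' := fun c d => mul_pow c d _ })
    fun i j => MulEquiv.ext fun c => by
      show frobC _ c = frobC _ (frobC _ c)
      rw [frobC, frobC, frobC, ← pow_mul, ← pow_add, add_comm, toAdd_mul]
      show frobC _ c = frobC _ c
      rw [← frobC_mod (_ + _), add_comm, ← ZMod.val_add, add_comm]

/-- The Frobenius group of order twenty. -/
abbrev K : Type := C ⋊[galC] Multiplicative (ZMod 4)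

/-- The exponent of the field automorphism. -/
def jv (k : K) : ℕ := (Multiplicative.toAdd k.right).val

/-- The action of the Frobenius group. -/
def kact : K →* MulAut N :=
  MonoidHom.mk' (fun k =>
    (scale k.left) * (
    { toFun := frobPow (jv k)
      invFun := frobPow (-Multiplicative.toAdd k.right).val
      left_inv := fun x => by
        rw [← frobPow_add, ← frobPow_mod, jv, ← ZMod.val_add, neg_add_cancel, ZMod.val_zero, frobPow_zero]
      right_inv := fun x => by
        rw [← frobPow_add, ← frobPow_mod, jv, ← ZMod.val_add, add_neg_cancel, ZMod.val_zero, frobPow_zero]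
      map_mul' := frobPow_map_mul _ } : MulAut N))
    fun k l => MulEquiv.ext fun x => by
      show scaleFun (k * l).left (frobPow (jv (k * l)) x) =
        scaleFun k.left (frobPow (jv k) (scaleFun l.left (frobPow (jv l) x)))
      rw [show jv (k * l) = (jv k + jv l) % 4 from ZMod.val_add _ _, frobPow_mod, frobPow_add,
        SemidirectProduct.mul_left, scaleFun_mul]
      congr 1
      ext <;> simp only [scaleFun, frobPow, show galC k.right l.left = frobC (jv k) l.left from rfl,
        cv_frobC, mul_pow, ← pow_mul] <;> ring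

theorem kact_apply (k : K) (x : N) : kact k x = scaleFun k.left (frobPow (jv k) x) := rfl

/-- The group. -/
abbrev H : Type := N ⋊[kact] K

instance : Finite K := Finite.of_equiv _ SemidirectProduct.equivProd.symm

instance : Finite H := Finite.of_equiv _ SemidirectProduct.equivProd.symm

theorem isPGroup_N : IsPGroup 3 N := fun x => ⟨2, N.pow_nine_eq x⟩

theorem isSolvable : Group.IsSolvable H := by
  have : Group.IsNilpotent N := isPGroup_N.isNilpotent
  have : Group.IsSolvable K :=
    solvable_of_ker_le_range (SemidirectProduct.inl (φ := galC)) SemidirectProduct.rightHom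
      (SemidirectProduct.range_inl_eq_ker_rightHom (φ := galC)).ge
  exact solvable_of_ker_le_range (SemidirectProduct.inl (φ := kact)) SemidirectProduct.rightHom
    (SemidirectProduct.range_inl_eq_ker_rightHom (φ := kact)).ge

theorem left_pow (x : H) (hx : x.right = 1) (n : ℕ) : (x ^ n).left = x.left ^ n ∧ (x ^ n).right = 1 := by
  induction n with
  | zero => simp
  | succ n ih => simp [pow_succ, ih.1, ih.2, hx]

theorem pow_nine_of_right (x : H) (hx : x.right = 1) : x ^ 9 = 1 :=
  SemidirectProduct.ext ((left_pow x hx 9).1.trans (N.pow_nine_eq _)) (left_pow x hx 9).2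

theorem pow_five_of_right (x : H) (c : C) (hc : c ≠ 1) (hx : x.right = SemidirectProduct.inl c) :
    x ^ 5 = 1 := by
  have hr : (x ^ 5).right = 1 := by
    rw [show (x ^ 5).right = x.right ^ 5 from map_pow SemidirectProduct.rightHom x 5, hx, ← map_pow,
      show c ^ 5 = 1 from cv_injective (by rw [cv_one, ← cv_pow_five c]; simp [cv]), map_one]
  refine SemidirectProduct.ext ?_ hr
  have h := congrArg SemidirectProduct.left ((Commute.self_pow x 5).eq)
  rw [SemidirectProduct.mul_left, SemidirectProduct.mul_left, hr, map_one, MulAut.one_apply, hx,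
    kact_apply] at h
  simp only [SemidirectProduct.left_inl, show jv (SemidirectProduct.inl c) = 0 from rfl,
    frobPow_zero] at h
  have hne : cv c ≠ 1 := fun e => hc (cv_injective (e.trans cv_one.symm))
  have hpow : ∀ {i : ℕ} {z : E}, ¬ 5 ∣ i → cv c ^ i * z = z → z = 0 := by
    intro i z hi hz
    by_contra h0
    have h1 : cv c ^ i = 1 := mul_right_cancel₀ h0 (hz.trans (one_mul z).symm)
    have h2 := (pow_gcd_eq_one (a := cv c) (m := 5) (n := i)).2 ⟨cv_pow_five c, h1⟩
    rw [(Nat.Prime.coprime_iff_not_dvd Nat.prime_five).2 hi, pow_one] at h2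
    exact hne h2
  simp only [N.mul_def, scaleFun, N.ext_iff] at h
  obtain ⟨ha, hb, h1, h2, h3, h4, hw⟩ := h
  set q := (x ^ 5).left
  have za : q.a = 0 := hpow (i := 1) (by norm_num) (by linear_combination ha)
  have zb : q.b = 0 := hpow (i := 1) (by norm_num) (by linear_combination hb)
  simp only [za, zb, mul_zero, zero_mul, zero_pow (show 3 ≠ 0 by norm_num),
    zero_pow (show 9 ≠ 0 by norm_num), add_zero, sub_zero] at h1 h2 h3 h4 hw
  have z1 : q.p1 = 0 := hpow (i := 4) (by norm_num) (by linear_combination h1)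
  have z2 : q.p2 = 0 := hpow (i := 12) (by norm_num) (by linear_combination h2)
  have z3 : q.p3 = 0 := hpow (i := 12) (by norm_num) (by linear_combination h3)
  have z4 : q.p4 = 0 := hpow (i := 4) (by norm_num) (by linear_combination h4)
  simp only [z1, z2, z3, z4, mul_zero, zero_mul, add_zero, sub_zero] at hw
  have zw : q.w = 0 := hpow (i := 13) (by norm_num) (by linear_combination hw)
  exact N.ext za zb z1 z2 z3 z4 zw

theorem pow_six_of_right (x : H) (hx : jv x.right = 2) : x ^ 6 = 1 := by
  set c := x.right.left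
  have hc9 : cv c * cv c ^ 9 = 1 := by
    rw [← pow_succ', show 9 + 1 = 5 * 2 by norm_num, pow_mul, cv_pow_five, one_pow]
  have hr : (x ^ 2).right = 1 := by
    rw [pow_two, SemidirectProduct.mul_right]
    refine SemidirectProduct.ext ?_ ?_
    · rw [SemidirectProduct.mul_left, show galC x.right.right c = frobC (jv x.right) c from rfl, hx]
      apply cv_injective
      rw [cv_mul, cv_frobC, SemidirectProduct.one_left, cv_one]
      exact hc9
    · rw [SemidirectProduct.mul_right, SemidirectProduct.one_right]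
      apply Multiplicative.toAdd.injective
      apply ZMod.val_injective
      rw [toAdd_mul, ZMod.val_add]
      show (jv x.right + jv x.right) % 4 = _
      rw [hx]
      rfl
  rw [show 6 = 2 * 3 by norm_num, pow_mul]
  refine SemidirectProduct.ext ?_ (left_pow _ hr 3).2
  rw [(left_pow _ hr 3).1, N.pow_three_eq, SemidirectProduct.one_left, N.one_def]
  have ha : ∀ a : E, (cv c * (a ^ 9) + a) ^ 9 * cv c = cv c * a ^ 9 + a := by
    intro a
    rw [add_nine, mul_pow, ← pow_mul, pow_81]
    linear_combination a * hc9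
  have hl : (x ^ 2).left = x.left * kact x.right x.left := by rw [pow_two, SemidirectProduct.mul_left]
  have e1 : (x ^ 2).left.a = x.left.a + cv c * x.left.a ^ 9 := by
    rw [hl, kact_apply, hx]; rfl
  have e2 : (x ^ 2).left.b = x.left.b + cv c * x.left.b ^ 9 := by
    rw [hl, kact_apply, hx]; rfl
  ext <;> try rfl
  show N.cubeForm _ _ = 0
  set A := (x ^ 2).left.a
  set B := (x ^ 2).left.b
  have fA : cv c * A ^ 9 = A := by rw [e1, add_comm, mul_comm]; exact ha _
  have fB : cv c * B ^ 9 = B := by rw [e2, add_comm, mul_comm]; exact ha _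
  have hc0 : cv c ≠ 0 := left_ne_zero_of_mul_eq_one hc9
  have : cv c * N.cubeForm A B = 0 := by
    rw [N.cubeForm]
    linear_combination A * A ^ 3 * fB - A ^ 3 * B * fA
  exact (mul_eq_zero.1 this).resolve_left hc0

theorem pow_twelve_of_right (x : H) (hx : jv x.right = 1 ∨ jv x.right = 3) : x ^ 12 = 1 := by
  rw [show 12 = 2 * 6 by norm_num, pow_mul]
  refine pow_six_of_right _ ?_
  rw [pow_two, SemidirectProduct.mul_right, jv, SemidirectProduct.mul_right, toAdd_mul, ZMod.val_add]
  show (jv x.right + jv x.right) % 4 = 2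
  omega

/-- Every element order divides 5, 9 or 12. -/
theorem order_dvd (x : H) : orderOf x ∣ 5 ∨ orderOf x ∣ 9 ∨ orderOf x ∣ 12 := by
  have h4 : jv x.right < 4 := ZMod.val_lt _
  rcases (show jv x.right = 0 ∨ jv x.right = 2 ∨ (jv x.right = 1 ∨ jv x.right = 3) by omega) with
    h | h | h
  · have hk : x.right = SemidirectProduct.inl x.right.left := by
      refine SemidirectProduct.ext (by simp) ?_
      rw [SemidirectProduct.right_inl]
      exact Multiplicative.toAdd.injective ((ZMod.val_eq_zero _).1 h)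
    by_cases hc : x.right.left = 1
    · exact Or.inr (Or.inl (orderOf_dvd_of_pow_eq_one (pow_nine_of_right x (by rw [hk, hc, map_one]))))
    · exact Or.inl (orderOf_dvd_of_pow_eq_one (pow_five_of_right x _ hc hk))
  · exact Or.inr (Or.inr ((orderOf_dvd_of_pow_eq_one (pow_six_of_right x h)).trans (by norm_num)))
  · exact Or.inr (Or.inr (orderOf_dvd_of_pow_eq_one (pow_twelve_of_right x h)))

theorem exists_nine : ∃ x : H, orderOf x = 9 := by
  obtain ⟨g, hg⟩ : ∃ g : E, g ^ 9 ≠ g := by
    by_contra! hall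
    have hsub : (Set.univ : Set E) ⊆ {z | (Polynomial.X ^ 9 - Polynomial.X : Polynomial E).IsRoot z} :=
      fun z _ => by simp [hall z]
    have hne : (Polynomial.X ^ 9 - Polynomial.X : Polynomial E) ≠ 0 :=
      FiniteField.X_pow_card_pow_sub_X_ne_zero E (n := 2) (p := 3) (by norm_num) (by norm_num)
    have := Fintype.ofFinite E
    classical
    have h2 := Polynomial.card_roots' (Polynomial.X ^ 9 - Polynomial.X : Polynomial E)
    have h3 : Fintype.card E ≤ (Polynomial.X ^ 9 - Polynomial.X : Polynomial E).roots.toFinset.card :=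
      Finset.card_le_card fun z _ => Multiset.mem_toFinset.2 ((Polynomial.mem_roots hne).2 (hsub trivial))
    have h4 := Multiset.toFinset_card_le (Polynomial.X ^ 9 - Polynomial.X : Polynomial E).roots
    rw [← Nat.card_eq_fintype_card, card_E] at h3
    rw [FiniteField.X_pow_card_sub_X_natDegree_eq E (p := 9) (by norm_num)] at h2
    omega
  let u : N := ⟨1, g, 0, 0, 0, 0, 0⟩
  refine ⟨SemidirectProduct.inl u, ?_⟩
  rw [orderOf_injective _ SemidirectProduct.inl_injective]
  have h3 : ¬ u ^ 3 ^ 1 = 1 := by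
    rw [pow_one, N.pow_three_eq, N.one_def]
    intro h
    have := congrArg N.w h
    simp [N.cubeForm, u, sub_eq_zero, hg] at this
  exact orderOf_eq_prime_pow (n := 1) h3 (N.pow_nine_eq u)

theorem exists_twelve : ∃ x : H, orderOf x = 12 := by
  let u : N := ⟨1, 1, 0, 0, 0, 0, 0⟩
  let k : K := SemidirectProduct.inr (Multiplicative.ofAdd 1)
  have hk : kact k u = u := by
    rw [kact_apply]
    ext <;> simp [u, k, scaleFun, frobPow, cv_one, jv]
  have ho3 : orderOf (SemidirectProduct.inl u : H) = 3 := by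
    rw [orderOf_injective _ SemidirectProduct.inl_injective]
    refine orderOf_eq_prime (by rw [N.pow_three_eq, N.one_def]; simp [N.cubeForm, u]) ?_
    intro h
    simpa [u, N.one_def] using congrArg N.a h
  have ho4 : orderOf (SemidirectProduct.inr k : H) = 4 := by
    rw [orderOf_injective _ SemidirectProduct.inr_injective,
      orderOf_injective _ SemidirectProduct.inr_injective,
      orderOf_ofAdd_eq_addOrderOf, ZMod.addOrderOf_one]
  have hc : Commute (SemidirectProduct.inl u : H) (SemidirectProduct.inr k) := by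
    refine SemidirectProduct.ext ?_ ?_
    · simp [hk]
    · simp
  exact ⟨_, by rw [hc.orderOf_mul_eq_mul_orderOf_of_coprime (by rw [ho3, ho4]; decide), ho3, ho4]⟩

theorem exists_five : ∃ x : H, orderOf x = 5 := by
  have := Fintype.ofFinite E
  have : Fact (Nat.Prime 5) := ⟨Nat.prime_five⟩
  classical
  have h : 5 ∣ Fintype.card Eˣ := by
    rw [Fintype.card_units, ← Nat.card_eq_fintype_card, card_E]; norm_num
  obtain ⟨c, hc⟩ := exists_prime_orderOf_dvd_card 5 h
  let d : C := ⟨c, (mem_rootsOfUnity _ _).2 (hc ▸ pow_orderOf_eq_one c)⟩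
  refine ⟨SemidirectProduct.inr (SemidirectProduct.inl d), ?_⟩
  rw [orderOf_injective _ SemidirectProduct.inr_injective,
    orderOf_injective _ SemidirectProduct.inl_injective, ← Subgroup.orderOf_coe]
  exact hc

end Cfsg.Agent.SpecU42
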